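import Mathlib.RingTheory.Invariant.Defs
import Mathlib.RingTheory.Ideal.Operations
import Mathlib.RingTheory.Smooth.Fiber
import Mathlib.RingTheory.Unramified.Finite
import Mathlib.RingTheory.Etale.Locus
import Mathlib.RingTheory.Localization.BaseChange
import Mathlib.RingTheory.Finiteness.ModuleFinitePresentation
import Mathlib.RingTheory.Flat.Basic
import Mathlib.RingTheory.Ideal.Maximal
import Mathlib.Algebra.Algebra.Tower
import Mathlib.RingTheory.TensorProduct.Finite

/-!
# Free actions: Galois coordinates and etaleness over the invariants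
-/

noncomputable section

open TensorProduct Pointwise

namespace GaloisTraceLib

universe u w

variable {B R : Type u} [CommRing B] [CommRing R] [Algebra B R]
  {G : Type w} [Group G] [MulSemiringAction G R] [SMulCommClass G B R]

variable (B) in
/-- `σ` as a `B`-algebra map. -/
def act (σ : G) : R →ₐ[B] R :=
  { MulSemiringAction.toRingHom G R σ with
    commutes' := fun b => by simp [Algebra.algebraMap_eq_smul_one, smul_comm σ b] }

@[simp] lemma act_apply (σ : G) (r : R) : act B σ r = σ • r := rfl

variable (B) in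
/-- `a ⊗ b ↦ a * σ b`. -/
def ev (σ : G) : R ⊗[B] R →ₐ[B] R :=
  Algebra.TensorProduct.lift (AlgHom.id B R) (act B σ) fun _ _ => Commute.all _ _

@[simp] lemma ev_tmul (σ : G) (a b : R) : ev B σ (a ⊗ₜ b) = a * σ • b := by simp [ev]

variable (B G) in
/-- `c` admits Galois coordinates. -/
def Coord (c : R) : Prop :=
  ∃ p : R ⊗[B] R, ev B (1 : G) p = c ∧ ∀ σ : G, σ ≠ 1 → ev B σ p = 0

omit [SMulCommClass G B R] in
lemma smul_mem_iff {γ : G} {I : Ideal R} {r : R} : r ∈ γ • I ↔ γ⁻¹ • r ∈ I :=
  Ideal.mem_pointwise_smul_iff_inv_smul_mem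

theorem exists_coord [Finite G] (m : Ideal R) [m.IsMaximal]
    (hstab : ∀ γ : G, γ • m = m → γ = 1) :
    ∃ c : R, Coord B G c ∧ ∀ γ : G, γ • c ∉ m := by
  classical
  haveI := Fintype.ofFinite G
  -- separating `m` from its conjugates
  have hsep : ∀ γ : G, γ ≠ 1 → ∃ b : R, b - 1 ∈ m ∧ γ • b ∈ m := by
    intro γ hγ
    have hmax : (γ⁻¹ • m).IsMaximal := by
      rw [Ideal.pointwise_smul_eq_comap]
      exact Ideal.comap_isMaximal_of_surjective _ (MulSemiringAction.toRingEquiv G R γ⁻¹⁻¹).surjective
    have hne : m ≠ γ⁻¹ • m := fun h => hγ (inv_eq_one.1 (hstab _ h.symm))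
    obtain ⟨a, ha, b, hb, hab⟩ := Submodule.mem_sup.1
      ((Ideal.IsMaximal.coprime_of_ne inferInstance hmax hne : m ⊔ γ⁻¹ • m = ⊤) ▸
        Submodule.mem_top (x := (1 : R)))
    refine ⟨b, by rw [← hab, sub_add_cancel_right]; exact m.neg_mem ha, ?_⟩
    have := smul_mem_iff.1 hb
    rwa [inv_inv] at this
  choose! bb hb1 hb2 using hsep
  -- a coordinate element not in `m`
  obtain ⟨c, ⟨p, hp1, hp⟩, hc⟩ : ∃ c, Coord B G c ∧ c ∉ m := by
    let p : R ⊗[B] R := ∏ γ ∈ Finset.univ.erase (1 : G),
      ((γ • bb γ) ⊗ₜ[B] (1 : R) - (1 : R) ⊗ₜ[B] bb γ)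
    refine ⟨ev B (1 : G) p, ⟨p, rfl, fun σ hσ => ?_⟩, ?_⟩
    · rw [map_prod]
      exact Finset.prod_eq_zero (Finset.mem_erase.2 ⟨hσ, Finset.mem_univ σ⟩) (by simp)
    · rw [map_prod]
      intro h
      obtain ⟨γ, hγ, hγm⟩ := (Ideal.IsPrime.prod_mem_iff (hp := Ideal.IsMaximal.isPrime inferInstance)).1 h
      have hγ1 := (Finset.mem_erase.1 hγ).1
      simp only [map_sub, ev_tmul, smul_one, mul_one, one_mul, one_smul] at hγm
      have := m.sub_mem (m.sub_mem (hb2 γ hγ1) hγm) (hb1 γ hγ1)
      rw [show γ • bb γ - (γ • bb γ - bb γ) - (bb γ - 1) = 1 by ring] at this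
      exact Ideal.IsMaximal.ne_top inferInstance (m.eq_top_iff_one.2 this)
  -- an element `≡ 1` at `m` and `≡ 0` at the other conjugates
  set e := ∏ γ ∈ Finset.univ.erase (1 : G), bb γ
  have he1 : e - 1 ∈ m := by
    rw [← Ideal.Quotient.eq, map_prod, map_one]
    exact Finset.prod_eq_one fun γ hγ => Ideal.Quotient.eq.2 (hb1 γ (Finset.mem_erase.1 hγ).1)
  have he0 : ∀ γ : G, γ ≠ 1 → γ • e ∈ m := fun γ hγ => by
    rw [Finset.smul_prod']
    exact m.prod_mem (Finset.mem_erase.2 ⟨hγ, Finset.mem_univ γ⟩) (hb2 γ hγ)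
  -- conjugating the coordinates
  have hconj : ∀ δ : G, Coord B G (δ • c) := by
    intro δ
    have hev : ∀ (σ : G) (z : R ⊗[B] R), ev B σ (Algebra.TensorProduct.map (act B δ) (act B δ) z) =
        δ • ev B (δ⁻¹ * σ * δ) z := by
      intro σ z
      induction z using TensorProduct.induction_on with
      | zero => simp
      | add x y hx hy => simp only [map_add, smul_add, hx, hy]
      | tmul a b => simp [smul_mul', mul_smul]
    refine ⟨Algebra.TensorProduct.map (act B δ) (act B δ) p, by rw [hev]; simp [hp1], fun σ hσ => ?_⟩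
    rw [hev, hp _ fun h => hσ ?_, smul_zero]
    rwa [mul_assoc, inv_mul_eq_one, eq_comm, mul_eq_right] at h
  choose q hq1 hq using hconj
  refine ⟨∑ δ : G, δ • e * δ • c, ⟨∑ δ : G, (δ • e) ⊗ₜ[B] (1 : R) * q δ, ?_, fun σ hσ => ?_⟩, fun γ => ?_⟩
  · simp [map_sum, hq1]
  · simp [map_sum, hq _ σ hσ]
  · rw [Finset.smul_sum]
    intro h
    have hrest : ∑ δ ∈ Finset.univ.erase γ⁻¹, γ • (δ • e * δ • c) ∈ m := by
      refine m.sum_mem fun δ hδ => ?_
      rw [smul_mul', ← mul_smul]
      exact m.mul_mem_right _ (he0 _ fun h => (Finset.mem_erase.1 hδ).1 (eq_inv_of_mul_eq_one_right h))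
    rw [← Finset.add_sum_erase _ _ (Finset.mem_univ γ⁻¹), add_mem_cancel_right hrest, smul_mul',
      smul_inv_smul, smul_inv_smul] at h
    rcases (Ideal.IsMaximal.isPrime (I := m) inferInstance).mem_or_mem h with he | hc'
    · have := m.sub_mem he he1
      rw [sub_sub_cancel] at this
      exact Ideal.IsMaximal.ne_top inferInstance (m.eq_top_iff_one.2 this)
    · exact hc hc'

variable [Fintype G] [Algebra.IsInvariant B R G]

/-- `B`-valued trace of `y * r`. -/
lemma exists_trace (y r : R) : ∃ b : B, algebraMap B R b = ∑ σ : G, σ • (y * r) :=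
  Algebra.IsInvariant.isInvariant (G := G) _ fun g => by
    rw [Finset.smul_sum]
    exact Fintype.sum_equiv (Equiv.mulLeft g) _ _ fun σ => (mul_smul g σ _).symm

variable [FaithfulSMul B R]

theorem etale_away {N : B} {p : R ⊗[B] R} (hp1 : ev B (1 : G) p = algebraMap B R N)
    (hp : ∀ σ : G, σ ≠ 1 → ev B σ p = 0) :
    Algebra.Etale B (Localization.Away N ⊗[B] R) := by
  classical
  have hinj : Function.Injective (algebraMap B R) := FaithfulSMul.algebraMap_injective B R
  obtain ⟨S, hS⟩ := TensorProduct.exists_finset p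
  subst hS
  simp only [map_sum, ev_tmul, one_smul] at hp1 hp
  choose tr htr using fun (y : R) (r : R) => exists_trace (B := B) (G := G) y r
  let f : R → R →ₗ[B] B := fun y =>
    { toFun := tr y
      map_add' := fun r s => hinj (by
        simp only [map_add, htr, mul_add, smul_add, Finset.sum_add_distrib])
      map_smul' := fun b r => hinj (by
        simp only [RingHom.id_apply, smul_eq_mul, map_mul, htr, Finset.mul_sum]
        refine Finset.sum_congr rfl fun σ _ => ?_
        rw [mul_smul_comm, smul_comm σ b, Algebra.smul_def]) }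
  have hbasis : ∀ r : R, ∑ i ∈ S, f i.2 r • i.1 = N • r := by
    intro r
    calc ∑ i ∈ S, f i.2 r • i.1 = ∑ i ∈ S, ∑ σ : G, σ • r * (i.1 * σ • i.2) := by
          refine Finset.sum_congr rfl fun i _ => ?_
          rw [Algebra.smul_def, show algebraMap B R (f i.2 r) = _ from htr i.2 r, Finset.sum_mul]
          exact Finset.sum_congr rfl fun σ _ => by rw [smul_mul']; ring
      _ = ∑ σ : G, σ • r * ∑ i ∈ S, i.1 * σ • i.2 := by
          rw [Finset.sum_comm]; simp only [Finset.mul_sum]
      _ = N • r := by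
          rw [Finset.sum_eq_single 1 (fun σ _ h => by rw [hp σ h, mul_zero])
            (fun h => absurd (Finset.mem_univ _) h), one_smul]
          simp only [one_smul]
          rw [hp1, Algebra.smul_def, mul_comm]
  -- symmetry of the coordinates
  have hfun : ∀ y z r : R, f y (z * r) = f z (y * r) := fun y z r => hinj (by
    show algebraMap B R (tr y (z * r)) = algebraMap B R (tr z (y * r))
    rw [htr, htr]
    simp only [mul_left_comm y z r])
  have hswap : ∀ r : R, ∑ i ∈ S, i.1 ⊗ₜ[B] (N • (i.2 * r)) =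
      ∑ j ∈ S, (N • (j.2 * r)) ⊗ₜ[B] j.1 := by
    intro r
    simp only [← hbasis, sum_tmul, tmul_sum]
    rw [Finset.sum_comm]
    refine Finset.sum_congr rfl fun j _ => Finset.sum_congr rfl fun i _ => ?_
    rw [tmul_smul, smul_tmul', hfun]
  set p₀ := N • ∑ i ∈ S, i.1 ⊗ₜ[B] i.2 with hp₀
  have hkey : ∀ r : R, ((1 : R) ⊗ₜ[B] r) * p₀ = (r ⊗ₜ[B] (1 : R)) * p₀ := by
    intro r
    have hLHS : ∀ r : R, ((1 : R) ⊗ₜ[B] r) * p₀ = ∑ i ∈ S, i.1 ⊗ₜ[B] (N • (i.2 * r)) := fun r => by
      simp [hp₀, Finset.smul_sum, Finset.mul_sum, mul_comm r]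
    have h1 := hswap 1
    rw [← hLHS 1, ← Algebra.TensorProduct.one_def, one_mul] at h1
    conv_rhs => rw [h1, Finset.mul_sum]
    rw [hLHS, hswap]
    refine Finset.sum_congr rfl fun j _ => ?_
    rw [Algebra.TensorProduct.tmul_mul_tmul, one_mul, mul_one, mul_smul_comm, mul_comm]
  let B' := Localization.Away N
  obtain ⟨v, hv⟩ := (IsLocalization.Away.algebraMap_isUnit (S := Localization.Away N) N).exists_left_inv
  -- `(Localization.Away N ⊗[B] R)` is finite projective over `B'`
  let ι : R →ₗ[B] (S → B) := LinearMap.pi fun i => f i.1.2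
  let π : (S → B) →ₗ[B] R := Fintype.linearCombination B fun i : S => i.1.1
  have hπι : π ∘ₗ ι = N • LinearMap.id := LinearMap.ext fun r => by
    simp only [π, ι, LinearMap.comp_apply, Fintype.linearCombination_apply, LinearMap.pi_apply,
      LinearMap.smul_apply, LinearMap.id_apply]
    rw [← hbasis r]
    exact Finset.sum_coe_sort S fun i : R × R => f i.2 r • i.1
  let ι' := ι.baseChange (Localization.Away N)
  let π' := v • π.baseChange (Localization.Away N)
  have hsplit : π' ∘ₗ ι' = LinearMap.id := by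
    refine TensorProduct.AlgebraTensorModule.ext fun a r => ?_
    simp only [π', ι', LinearMap.comp_apply, LinearMap.smul_apply, LinearMap.baseChange_tmul,
      LinearMap.id_apply]
    rw [← LinearMap.comp_apply π ι, hπι, LinearMap.smul_apply, LinearMap.id_apply, tmul_smul,
      algebra_compatible_smul (Localization.Away N) N, smul_smul, hv, one_smul]
  haveI : Module.Projective (Localization.Away N) (Localization.Away N ⊗[B] R) := Module.Projective.of_split ι' π' hsplit
  haveI : Module.Finite (Localization.Away N) (Localization.Away N ⊗[B] R) :=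
    Module.Finite.of_surjective π' fun x => ⟨ι' x, LinearMap.congr_fun hsplit x⟩
  haveI : Module.FinitePresentation (Localization.Away N) (Localization.Away N ⊗[B] R) :=
    Module.finitePresentation_of_projective _ _
  -- and unramified
  haveI : Algebra.FormallyUnramified (Localization.Away N) (Localization.Away N ⊗[B] R) := by
    rw [Algebra.FormallyUnramified.iff_exists_tensorProduct]
    let inc : R →ₐ[B] (Localization.Away N ⊗[B] R) := Algebra.TensorProduct.includeRight
    let θ : R ⊗[B] R →ₐ[B] (Localization.Away N ⊗[B] R) ⊗[Localization.Away N] (Localization.Away N ⊗[B] R) := Algebra.TensorProduct.lift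
      (((Algebra.TensorProduct.includeLeft (R := Localization.Away N) (S := Localization.Away N)
        (A := (Localization.Away N ⊗[B] R)) (B := (Localization.Away N ⊗[B] R))).restrictScalars B).comp inc)
      (((Algebra.TensorProduct.includeRight (R := Localization.Away N) (A := (Localization.Away N ⊗[B] R))
        (B := (Localization.Away N ⊗[B] R))).restrictScalars B).comp inc)
      fun x y => by simp [Commute, SemiconjBy]
    have hθ : ∀ a b : R, θ (a ⊗ₜ b) = ((1 : Localization.Away N) ⊗ₜ[B] a) ⊗ₜ[Localization.Away N]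
        ((1 : Localization.Away N) ⊗ₜ[B] b) := fun a b =>
      (Algebra.TensorProduct.lift_tmul _ _ _ a b).trans (by simp [inc])
    refine ⟨(v * v) • θ p₀, fun s => ?_, ?_⟩
    · rw [mul_smul_comm]
      refine (congrArg _ ?_).trans (smul_zero (v * v))
      induction s using TensorProduct.induction_on with
      | zero => simp
      | add x y hx hy =>
        rw [tmul_add, add_tmul, add_sub_add_comm, add_mul, hx, hy, add_zero]
      | tmul a r =>
        have e : (a ⊗ₜ[B] r : (Localization.Away N ⊗[B] R)) = a • ((1 : Localization.Away N) ⊗ₜ[B] r) := by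
          rw [smul_tmul', smul_eq_mul, mul_one]
        rw [e, tmul_smul, ← smul_tmul', ← smul_sub, smul_mul_assoc]
        refine (congrArg _ ?_).trans (smul_zero a)
        have h1 := congrArg θ (sub_eq_zero.2 (hkey r))
        rw [map_sub, map_mul, map_mul, hθ, hθ, map_zero] at h1
        rw [sub_mul]
        simpa [← Algebra.TensorProduct.one_def] using h1
    · rw [map_smul]
      have hl : ∀ z : R ⊗[B] R,
          Algebra.TensorProduct.lmul' (Localization.Away N) (θ z) = inc (ev B (1 : G) z) := fun z => by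
        induction z using TensorProduct.induction_on with
        | zero => simp
        | add x y hx hy => simp only [map_add, hx, hy]
        | tmul a b => rw [hθ]; simp [inc]
      rw [hl, hp₀, map_smul, map_sum]
      simp only [ev_tmul, one_smul]
      rw [hp1, Algebra.algebraMap_eq_smul_one, smul_smul, map_smul, map_one,
        algebra_compatible_smul (Localization.Away N) (N * N), smul_smul, map_mul,
        show v * v * (algebraMap B (Localization.Away N) N * algebraMap B (Localization.Away N) N) = 1 by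
          rw [mul_mul_mul_comm, hv, one_mul], one_smul]
  haveI : Algebra.Etale B (Localization.Away N) := Algebra.Etale.of_isLocalizationAway N
  haveI : Algebra.Etale (Localization.Away N) (Localization.Away N ⊗[B] R) := Algebra.Etale.of_formallyUnramified_of_flat
  exact Algebra.Etale.comp B (Localization.Away N) (Localization.Away N ⊗[B] R)

theorem isEtaleAt (m : Ideal R) [m.IsMaximal] (hstab : ∀ γ : G, γ • m = m → γ = 1) :
    Algebra.IsEtaleAt B m := by
  classical
  obtain ⟨c, ⟨p, hp1, hp⟩, hc⟩ := exists_coord (B := B) m hstab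
  set c' := ∏ γ ∈ Finset.univ.erase (1 : G), γ • c
  obtain ⟨N, hN⟩ := Algebra.IsInvariant.isInvariant (A := B) (G := G) (∏ γ : G, γ • c) fun g => by
    rw [Finset.smul_prod']
    exact Fintype.prod_equiv (Equiv.mulLeft g) _ _ fun σ => (mul_smul g σ _).symm
  have hNm : algebraMap B R N ∉ m := by
    rw [hN]
    intro h
    obtain ⟨γ, -, hγ⟩ := (Ideal.IsPrime.prod_mem_iff (hp := Ideal.IsMaximal.isPrime inferInstance)).1 h
    exact hc γ hγ
  haveI := etale_away (B := B) (G := G) (N := N) (p := c' ⊗ₜ[B] (1 : R) * p)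
    (by
      rw [map_mul, hp1, ev_tmul, smul_one, mul_one, hN,
        ← Finset.mul_prod_erase _ _ (Finset.mem_univ (1 : G)), one_smul, mul_comm])
    (fun σ hσ => by rw [map_mul, hp σ hσ, mul_zero])
  haveI : Algebra.Etale B (R ⊗[B] Localization.Away N) :=
    Algebra.Etale.of_equiv (Algebra.TensorProduct.comm B (Localization.Away N) R)
  haveI : Algebra.Etale B (Localization.Away (algebraMap B R N)) :=
    Algebra.Etale.of_equiv ((IsLocalization.Away.tensorEquiv R N (Localization.Away N)).restrictScalars B)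
  exact Algebra.basicOpen_subset_etaleLocus_iff.2 inferInstance
    (show (⟨m, inferInstance⟩ : PrimeSpectrum R) ∈ PrimeSpectrum.basicOpen (algebraMap B R N) from hNm)

end GaloisTraceLib
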