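import Mathlib.RingTheory.Invariant.Basic
import Mathlib.RingTheory.Smooth.Fiber
import Mathlib.RingTheory.Unramified.Finite
import Mathlib.RingTheory.Flat.EquationalCriterion
import Mathlib.RingTheory.FinitePresentation
import Mathlib.RingTheory.TensorProduct.Finite
import Mathlib.RingTheory.Localization.Away.Basic
import Mathlib.RingTheory.Localization.Integer
import Mathlib.Algebra.MvPolynomial.Basic
import Mathlib.GroupTheory.Coset.Basic

/-!
# The inertia invariants are étale over the invariants

`etale_away_of_dual`: if a `B`-algebra `A` has finitely many `xᵢ, yᵢ` and a linear form `φ` with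
`∑ φ (yᵢ a) xᵢ = c a` and `∑ xᵢ yᵢ = c`, then `A_c` is étale over `B`.

`exists_etale_inertia`: for a finite group acting on `R` with invariants `B` and a prime `q`, the
invariants of the inertia group of `q` are étale over `B` near `q`.
-/

noncomputable section

open TensorProduct

namespace GaloisTraceLib

universe u w z

section Abstract

variable {B A : Type u} [CommRing B] [CommRing A] [Algebra B A] {S : Type z} [Fintype S]

section

variable {φ : A →ₗ[B] B} {x y : S → A} {c : A}

variable (φ y) in
/-- coordinates -/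
def kap : A →ₗ[B] (S → B) := LinearMap.pi fun i => φ ∘ₗ LinearMap.mulLeft B (y i)

lemma comb_kap (h : ∀ a, ∑ i, φ (y i * a) • x i = c * a) (a : A) :
    Fintype.linearCombination B x (kap φ y a) = c * a := by
  rw [Fintype.linearCombination_apply]
  exact h a

lemma flat_away (h : ∀ a, ∑ i, φ (y i * a) • x i = c * a) :
    Module.Flat B (Localization.Away c) := by
  classical
  obtain ⟨v, hv⟩ :=
    (IsLocalization.Away.algebraMap_isUnit (S := Localization.Away c) c).exists_left_inv
  refine Module.Flat.of_forall_isTrivialRelation fun {l f xx} hsum => ?_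
  obtain ⟨⟨_, ⟨n, rfl⟩⟩, hb⟩ :=
    IsLocalization.exist_integer_multiples_of_finite (Submonoid.powers c) xx
  choose a ha using hb
  simp only [Algebra.smul_def] at ha
  have h0 : algebraMap A (Localization.Away c) (∑ i, f i • a i) = 0 := by
    rw [map_sum]
    simp only [Algebra.smul_def, map_mul, ha, ← IsScalarTower.algebraMap_apply]
    simp only [mul_left_comm _ (algebraMap A (Localization.Away c) (c ^ n))]
    rw [← Finset.mul_sum]
    simp only [← Algebra.smul_def, hsum, smul_zero]
  obtain ⟨⟨_, k, rfl⟩, hk⟩ :=
    (IsLocalization.map_eq_zero_iff (Submonoid.powers c) (Localization.Away c) _).1 h0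
  obtain ⟨N, e, w, hw, he⟩ := Module.Flat.isTrivialRelation_of_sum_smul_eq_zero (R := B)
    (M := S → B) (f := f) (x := fun i => kap φ y (c ^ k * a i)) (by
      simp only [← map_smul, ← map_sum, ← mul_smul_comm, ← Finset.mul_sum]
      rw [show c ^ k * ∑ i, f i • a i = 0 from hk, map_zero])
  refine ⟨N, e, fun j => algebraMap A (Localization.Away c) (Fintype.linearCombination B x (w j)) *
    v ^ (k + 1 + n), fun i => ?_, he⟩
  have hi := congrArg (fun u => algebraMap A (Localization.Away c) (Fintype.linearCombination B x u) *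
    v ^ (k + 1 + n)) (hw i)
  simp only [comb_kap h, map_sum, map_smul] at hi
  simp only [← smul_mul_assoc, ← Finset.sum_mul]
  have hlin : ∀ (b : B) (u : A), algebraMap A (Localization.Away c) (b • u) =
      b • algebraMap A (Localization.Away c) u := fun b u =>
    (IsScalarTower.toAlgHom B A (Localization.Away c)).toLinearMap.map_smul b u
  simp only [hlin] at hi
  rw [← hi, ← mul_assoc, ← pow_succ', map_mul, ha, map_pow, map_pow]
  calc xx i = (v * algebraMap A (Localization.Away c) c) ^ (k + 1 + n) * xx i := by
        rw [hv, one_pow, one_mul]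
    _ = _ := by rw [mul_pow]; ring

open MvPolynomial in
lemma finitePresentation_away (h : ∀ a, ∑ i, φ (y i * a) • x i = c * a) :
    Algebra.FinitePresentation B (Localization.Away c) := by
  classical
  obtain ⟨v, hv⟩ :=
    (IsLocalization.Away.algebraMap_isUnit (S := Localization.Away c) c).exists_left_inv
  have hlin : ∀ (b : B) (u : A), algebraMap A (Localization.Away c) (b • u) =
      b • algebraMap A (Localization.Away c) u := fun b u =>
    (IsScalarTower.toAlgHom B A (Localization.Away c)).toLinearMap.map_smul b u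
  let lin : (S → B) →ₗ[B] MvPolynomial (Option S) B :=
    Fintype.linearCombination B fun j => X (some j)
  let C' : MvPolynomial (Option S) B := lin (kap φ y 1)
  let Φ : MvPolynomial (Option S) B →ₐ[B] Localization.Away c :=
    MvPolynomial.aeval fun o : Option S => o.elim v fun j => algebraMap A _ (x j)
  have hΦlin : ∀ u, Φ (lin u) = algebraMap A _ (Fintype.linearCombination B x u) := fun u => by
    simp only [Φ, lin, Fintype.linearCombination_apply, map_sum, map_smul, hlin, aeval_X,
      Option.elim_some]
  have hΦC : Φ C' = algebraMap A _ c := by rw [hΦlin, comb_kap h, mul_one]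
  have hΦX : ∀ j, Φ (X (some j)) = algebraMap A _ (x j) := fun j => by simp [Φ]
  have hΦZ : Φ (X none) = v := by simp [Φ]
  let gens : Finset (MvPolynomial (Option S) B) :=
    {X none * C' - 1} ∪
    (Finset.univ.image fun j => C' * X (some j) - lin (kap φ y (x j))) ∪
    (Finset.univ.image fun ij : S × S =>
      C' * (X (some ij.1) * X (some ij.2)) - lin (kap φ y (x ij.1 * x ij.2)))
  let J := Ideal.span (gens : Set (MvPolynomial (Option S) B))
  have hJ : J ≤ RingHom.ker Φ := by
    refine Ideal.span_le.2 fun g hg => ?_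
    simp only [gens, Finset.coe_union, Finset.coe_image, Finset.coe_singleton, Finset.coe_univ,
      Set.image_univ, Set.mem_union, Set.mem_singleton_iff, Set.mem_range] at hg
    rcases hg with (rfl | ⟨j, rfl⟩) | ⟨ij, rfl⟩ <;>
      simp [RingHom.mem_ker, hΦC, hΦX, hΦZ, hΦlin, comb_kap h, hv]
  let q := Ideal.Quotient.mkₐ B J
  have hmem : ∀ g ∈ gens, q g = 0 := fun g hg =>
    Ideal.Quotient.eq_zero_iff_mem.2 (Ideal.subset_span hg)
  have hZC : q (X none) * q C' = 1 := by
    have := hmem (X none * C' - 1) (by simp [gens])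
    rwa [map_sub, map_mul, map_one, sub_eq_zero] at this
  have hCX : ∀ j, q C' * q (X (some j)) = q (lin (kap φ y (x j))) := fun j => by
    have := hmem (C' * X (some j) - lin (kap φ y (x j))) (by
      simp only [gens, Finset.mem_union, Finset.mem_image, Finset.mem_univ, true_and]
      exact .inl (.inr ⟨j, rfl⟩))
    rwa [map_sub, map_mul, sub_eq_zero] at this
  have hCXX : ∀ i j, q C' * (q (X (some i)) * q (X (some j))) =
      q (lin (kap φ y (x i * x j))) := fun i j => by
    have := hmem (C' * (X (some i) * X (some j)) - lin (kap φ y (x i * x j))) (by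
      simp only [gens, Finset.mem_union, Finset.mem_image, Finset.mem_univ, true_and]
      exact .inr ⟨(i, j), rfl⟩)
    rwa [map_sub, map_mul, map_mul, sub_eq_zero] at this
  have hql : ∀ u, q (lin u) = ∑ j, u j • q (X (some j)) := fun u => by
    simp only [lin, Fintype.linearCombination_apply, map_sum, map_smul]
  have hT : ∀ u, q C' * q (lin u) = q (lin (kap φ y (Fintype.linearCombination B x u))) := fun u => by
    rw [hql u, Finset.mul_sum, Fintype.linearCombination_apply B x u]
    simp only [mul_smul_comm, hCX, map_sum, map_smul]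
  have hTX : ∀ u k, q C' * (q (lin u) * q (X (some k))) =
      q (lin (kap φ y (Fintype.linearCombination B x u * x k))) := fun u k => by
    rw [hql u, Finset.sum_mul, Finset.mul_sum, Fintype.linearCombination_apply B x u, Finset.sum_mul]
    simp only [smul_mul_assoc, mul_smul_comm, hCXX, map_sum, map_smul]
  have hTpow : ∀ (u : S → B) (k : ℕ), q C' ^ (k + 1) * q (lin u) =
      q (lin (kap φ y (c ^ k * Fintype.linearCombination B x u))) := by
    intro u k
    induction k with
    | zero => simp [hT]
    | succ k ih =>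
      rw [pow_succ' (q C'), mul_assoc, ih, hT, comb_kap h, pow_succ' c, mul_assoc]
  -- every element is a linear form over a power of `C'`
  have hform : ∀ u, ∃ n w, q C' ^ n * q u = q (lin w) := by
    have hraise : ∀ u n w, q C' ^ n * q u = q (lin w) → ∀ k, ∃ w', q C' ^ (k + n) * q u = q (lin w') := by
      intro u n w hw k
      induction k with
      | zero => exact ⟨w, by rw [zero_add, hw]⟩
      | succ k ih =>
        obtain ⟨w', hw'⟩ := ih
        refine ⟨kap φ y (Fintype.linearCombination B x w'), ?_⟩
        rw [← hT, ← hw', Nat.add_right_comm, pow_succ', mul_assoc]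
    intro u
    induction u using MvPolynomial.induction_on with
    | C b =>
      refine ⟨1, b • kap φ y 1, ?_⟩
      rw [pow_one, map_smul, map_smul, show (MvPolynomial.C b : MvPolynomial (Option S) B) = b • 1 by
        simp [MvPolynomial.smul_eq_C_mul], map_smul, map_one, mul_smul_comm, mul_one]
    | add p r hp hr =>
      obtain ⟨n, w, hw⟩ := hp
      obtain ⟨m, w', hw'⟩ := hr
      obtain ⟨a, ha⟩ := hraise p n w hw m
      obtain ⟨b, hb⟩ := hraise r m w' hw' n
      refine ⟨m + n, a + b, ?_⟩
      rw [map_add, mul_add, ha, Nat.add_comm m n, hb, map_add, map_add]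
    | mul_X p o hp =>
      obtain ⟨n, w, hw⟩ := hp
      cases o with
      | none =>
        refine ⟨n + 1, w, ?_⟩
        rw [map_mul, pow_succ, mul_assoc, mul_left_comm (q C'), mul_comm (q C') (q (X none)), hZC,
          mul_one, hw]
      | some k =>
        refine ⟨n + 1, kap φ y (Fintype.linearCombination B x w * x k), ?_⟩
        rw [← hTX w k, ← hw, map_mul, pow_succ]
        ring
  refine Algebra.FinitePresentation.of_surjective (f := Φ) (fun s => ?_) ?_
  · obtain ⟨⟨a, _, n, rfl⟩, hs⟩ := IsLocalization.surj (Submonoid.powers c) s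
    refine ⟨X none ^ (n + 1) * lin (kap φ y a), ?_⟩
    rw [map_mul, map_pow, hΦZ, hΦlin, comb_kap h, map_mul, ← hs, map_pow]
    calc _ = (v * algebraMap A (Localization.Away c) c) ^ (n + 1) * s := by rw [mul_pow]; ring
      _ = s := by rw [hv, one_pow, one_mul]
  · refine ⟨gens, le_antisymm hJ fun u hu => ?_⟩
    obtain ⟨n, w, hw⟩ := hform u
    have hΦu : Φ u = 0 := hu
    have hw0 : algebraMap A (Localization.Away c) (Fintype.linearCombination B x w) = 0 := by
      have h1 : C' ^ n * u - lin w ∈ J := Ideal.Quotient.eq.1 (by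
        simpa only [q, Ideal.Quotient.mkₐ_eq_mk, map_mul, map_pow] using hw)
      have h2 := hJ h1
      rw [RingHom.mem_ker, map_sub, map_mul, hΦu, mul_zero, zero_sub, neg_eq_zero, hΦlin] at h2
      exact h2
    obtain ⟨⟨_, m, rfl⟩, hm⟩ :=
      (IsLocalization.map_eq_zero_iff (Submonoid.powers c) (Localization.Away c) _).1 hw0
    have hm' : c ^ m * Fintype.linearCombination B x w = 0 := hm
    have h3 := hTpow w m
    rw [hm', map_zero, map_zero, map_zero, ← hw, ← mul_assoc, ← pow_add] at h3
    refine Ideal.Quotient.eq_zero_iff_mem.1 ?_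
    calc q u = (q (X none) * q C') ^ (m + 1 + n) * q u := by rw [hZC, one_pow, one_mul]
      _ = 0 := by rw [mul_pow, mul_assoc, h3, mul_zero]

theorem etale_away_of_dual (h : ∀ a, ∑ i, φ (y i * a) • x i = c * a) (hc : ∑ i, x i * y i = c) :
    Algebra.Etale B (Localization.Away c) := by
  haveI := flat_away h
  haveI := finitePresentation_away h
  obtain ⟨v, hv⟩ :=
    (IsLocalization.Away.algebraMap_isUnit (S := Localization.Away c) c).exists_left_inv
  -- the coordinates are symmetric
  have hswap : ∀ r : A, ∑ i, x i ⊗ₜ[B] (c * (y i * r)) = ∑ j, (c * (y j * r)) ⊗ₜ[B] x j := by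
    intro r
    simp only [← h, sum_tmul, tmul_sum]
    rw [Finset.sum_comm]
    refine Finset.sum_congr rfl fun j _ => Finset.sum_congr rfl fun i _ => ?_
    rw [tmul_smul, smul_tmul', mul_left_comm]
  have hkey : ∀ r : A, ((1 : A) ⊗ₜ[B] r) * ∑ i, x i ⊗ₜ[B] (c * y i) =
      (r ⊗ₜ[B] (1 : A)) * ∑ i, x i ⊗ₜ[B] (c * y i) := by
    intro r
    have h1 := hswap 1
    simp only [mul_one] at h1
    conv_rhs => rw [h1]
    simp only [Finset.mul_sum, Algebra.TensorProduct.tmul_mul_tmul, one_mul]
    rw [show (∑ i, x i ⊗ₜ[B] (r * (c * y i))) = ∑ i, x i ⊗ₜ[B] (c * (y i * r)) from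
      Finset.sum_congr rfl fun i _ => by rw [mul_left_comm, mul_comm r]]
    rw [hswap]
    exact Finset.sum_congr rfl fun j _ => by rw [mul_left_comm r, mul_comm r]
  haveI : Algebra.FormallyUnramified B (Localization.Away c) := by
    rw [Algebra.FormallyUnramified.iff_exists_tensorProduct]
    let g := IsScalarTower.toAlgHom B A (Localization.Away c)
    let θ : A ⊗[B] A →ₐ[B] Localization.Away c ⊗[B] Localization.Away c :=
      Algebra.TensorProduct.map g g
    refine ⟨algebraMap A (Localization.Away c) 1 ⊗ₜ[B] (v * v) * θ (∑ i, x i ⊗ₜ[B] (c * y i)),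
      fun s => ?_, ?_⟩
    · obtain ⟨⟨a, _, n, rfl⟩, hs⟩ := IsLocalization.surj (Submonoid.powers c) s
      rw [← mul_assoc, mul_comm _ (_ ⊗ₜ[B] (v * v)), mul_assoc]
      refine (congrArg _ ?_).trans (mul_zero _)
      have hz : ∀ r, ((1 : Localization.Away c) ⊗ₜ[B] algebraMap A _ r) *
          θ (∑ i, x i ⊗ₜ[B] (c * y i)) = (algebraMap A _ r ⊗ₜ[B] (1 : Localization.Away c)) *
          θ (∑ i, x i ⊗ₜ[B] (c * y i)) := fun r => by
        have := congrArg θ (hkey r)
        simpa [θ, g, map_mul] using this
      have hu : IsUnit (((1 : Localization.Away c) ⊗ₜ[B] algebraMap A (Localization.Away c) (c ^ n))) := by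
        rw [map_pow]
        exact ((IsLocalization.Away.algebraMap_isUnit c).pow n).map
          (Algebra.TensorProduct.includeRight : Localization.Away c →ₐ[B] _)
      refine hu.mul_left_cancel ?_
      rw [mul_zero]
      have e : ∀ (P Q R E : Localization.Away c ⊗[B] Localization.Away c),
          P * ((Q - R) * E) = Q * P * E - R * (P * E) := fun P Q R E => by ring
      rw [e, hz (c ^ n), ← mul_assoc, Algebra.TensorProduct.tmul_mul_tmul,
        Algebra.TensorProduct.tmul_mul_tmul, one_mul, hs, hz a, sub_self]
    · rw [map_mul, Algebra.TensorProduct.lmul'_apply_tmul, map_one, one_mul]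
      have hl : ∀ z : A ⊗[B] A, Algebra.TensorProduct.lmul' B (θ z) =
          algebraMap A (Localization.Away c) (Algebra.TensorProduct.lmul' B z) := fun z => by
        induction z using TensorProduct.induction_on with
        | zero => simp
        | add a b ha hb => simp only [map_add, ha, hb]
        | tmul a b => simp [θ, g]
      rw [hl, map_sum]
      simp only [Algebra.TensorProduct.lmul'_apply_tmul, mul_left_comm (x _) c]
      rw [← Finset.mul_sum, hc, map_mul, mul_mul_mul_comm, hv, mul_one]
  exact Algebra.Etale.of_formallyUnramified_of_flat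

end

end Abstract

section Inertia

variable (B R : Type u) [CommRing B] [CommRing R] [Algebra B R]
  (G : Type w) [Group G] [Finite G] [MulSemiringAction G R] [SMulCommClass G B R]
  [Algebra.IsInvariant B R G] [FaithfulSMul B R]

/-- The invariants of the inertia group of `q` are étale over the invariants near `q`. -/
theorem exists_etale_inertia (q : Ideal R) [q.IsPrime] :
    ∃ c : FixedPoints.subalgebra B R (q.inertia G), (c : R) ∉ q ∧
      Algebra.Etale B (Localization.Away c) := by
  classical
  haveI := Fintype.ofFinite G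
  haveI : Fintype (q.inertia G) := Fintype.ofFinite _
  haveI : Fintype (G ⧸ q.inertia G) := Fintype.ofFinite _
  have hI : ∀ σ : G, σ ∈ q.inertia G ↔ ∀ r, σ • r - r ∈ q := fun σ => Iff.rfl
  have hfix : ∀ (a : R), a ∈ FixedPoints.subalgebra B R (q.inertia G) ↔
      ∀ t ∈ q.inertia G, t • a = a := fun a =>
    ⟨fun h t ht => h ⟨t, ht⟩, fun h t => h t.1 t.2⟩
  have hcoef : ∀ (a : R) (i : ℕ), (MulSemiringAction.charpoly (q.inertia G) a).coeff i ∈
      FixedPoints.subalgebra B R (q.inertia G) := fun a i t =>
    MulSemiringAction.smul_coeff_charpoly a i t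
  -- an invariant moved by `σ` modulo `q`
  have hmove : ∀ σ : G, σ ∉ q.inertia G →
      ∃ b : FixedPoints.subalgebra B R (q.inertia G), σ • (b : R) - b ∉ q := by
    intro σ hσ
    by_contra hcon
    push Not at hcon
    refine hσ ((hI σ).2 fun a => ?_)
    set P := MulSemiringAction.charpoly (q.inertia G) a with hP
    have h1 : P.eval (σ • a) - σ • P.eval a ∈ q := by
      rw [Polynomial.eval_eq_sum_range, Polynomial.eval_eq_sum_range, Finset.smul_sum,
        ← Finset.sum_sub_distrib]
      refine q.sum_mem fun i _ => ?_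
      rw [smul_mul', smul_pow', ← sub_mul]
      refine q.mul_mem_right _ ?_
      rw [← neg_sub]
      exact q.neg_mem (hcon ⟨_, hcoef a i⟩)
    rw [hP, MulSemiringAction.eval_charpoly, smul_zero, sub_zero,
      MulSemiringAction.charpoly_eq, Polynomial.eval_prod] at h1
    obtain ⟨t, -, ht⟩ := Ideal.IsPrime.prod_mem_iff.1 h1
    simp only [Polynomial.eval_sub, Polynomial.eval_X, Polynomial.eval_C] at ht
    have := q.add_mem ht ((hI t.1).1 t.2 a)
    rwa [show σ • a - t • a + (t.1 • a - a) = σ • a - a by rw [Subgroup.smul_def]; ring] at this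
  -- evaluation maps
  let ev : G → (FixedPoints.subalgebra B R (q.inertia G)) ⊗[B]
      (FixedPoints.subalgebra B R (q.inertia G)) →ₐ[B] R := fun σ =>
    Algebra.TensorProduct.lift (Subalgebra.val _)
      (({ MulSemiringAction.toRingHom G R σ with
          commutes' := fun b => by simp [Algebra.algebraMap_eq_smul_one, smul_comm σ b] } :
        R →ₐ[B] R).comp (Subalgebra.val _)) fun _ _ => Commute.all _ _
  have hev : ∀ σ (a b : FixedPoints.subalgebra B R (q.inertia G)),
      ev σ (a ⊗ₜ b) = (a : R) * σ • (b : R) := fun σ a b => by simp [ev]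
  have hone : ∀ σ, σ ∉ q.inertia G → ∃ p, ev σ p = 0 ∧ ev 1 p ∉ q := by
    intro σ hσ
    obtain ⟨b, hb⟩ := hmove σ hσ
    let P := MulSemiringAction.charpoly (q.inertia G) (σ • (b : R))
    let cf : ℕ → FixedPoints.subalgebra B R (q.inertia G) := fun i => ⟨P.coeff i, hcoef _ i⟩
    have hcf : ∀ i, (cf i : R) = P.coeff i := fun i => rfl
    have hh : ∀ τ i, ev τ (cf i ⊗ₜ[B] (b ^ i)) = P.coeff i * τ • (b : R) ^ i := fun τ i =>
      (hev τ (cf i) _).trans (by rw [SubmonoidClass.coe_pow])
    refine ⟨∑ i ∈ Finset.range (P.natDegree + 1), cf i ⊗ₜ[B] (b ^ i), ?_, ?_⟩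
    · simp only [map_sum, hh, smul_pow']
      exact (Polynomial.eval_eq_sum_range _).symm.trans (MulSemiringAction.eval_charpoly _ _)
    · simp only [map_sum, hh, one_smul]
      rw [show (∑ i ∈ Finset.range (P.natDegree + 1), P.coeff i * (b : R) ^ i) = P.eval (b : R) from
        (Polynomial.eval_eq_sum_range _).symm]
      intro h
      simp only [P] at h
      rw [MulSemiringAction.charpoly_eq, Polynomial.eval_prod] at h
      obtain ⟨t, -, ht⟩ := Ideal.IsPrime.prod_mem_iff.1 h
      simp only [Polynomial.eval_sub, Polynomial.eval_X, Polynomial.eval_C] at ht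
      apply hb
      have := q.neg_mem (q.add_mem ht ((hI t.1).1 t.2 (σ • (b : R))))
      rwa [show -((b : R) - t • σ • (b : R) + (t.1 • σ • (b : R) - σ • (b : R))) = σ • (b : R) - b by
        rw [Subgroup.smul_def]; ring] at this
  choose! p hp0 hp1 using hone
  let P := ∏ σ ∈ Finset.univ.filter (fun σ => σ ∉ q.inertia G), p σ
  have hPσ : ∀ σ, σ ∉ q.inertia G → ev σ P = 0 := fun σ hσ => by
    rw [map_prod]
    exact Finset.prod_eq_zero (Finset.mem_filter.2 ⟨Finset.mem_univ σ, hσ⟩) (hp0 σ hσ)
  have hP1 : ev 1 P ∉ q := fun h => by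
    rw [map_prod] at h
    obtain ⟨σ, hσ, hσq⟩ := Ideal.IsPrime.prod_mem_iff.1 h
    exact hp1 σ (Finset.mem_filter.1 hσ).2 hσq
  obtain ⟨T, hT⟩ := TensorProduct.exists_finset P
  rw [hT] at hPσ hP1
  simp only [map_sum, hev, one_smul] at hPσ hP1
  let c : FixedPoints.subalgebra B R (q.inertia G) := ∑ i ∈ T, i.1 * i.2
  have hcR : (c : R) = ∑ i ∈ T, (i.1 : R) * i.2 := by simp [c]
  refine ⟨c, by rwa [hcR], ?_⟩
  -- trace
  let f : FixedPoints.subalgebra B R (q.inertia G) → G ⧸ q.inertia G → R := fun a C =>
    Quotient.liftOn' C (fun σ => σ • (a : R)) fun σ τ h => by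
      have h' : σ⁻¹ * τ ∈ q.inertia G := QuotientGroup.leftRel_apply.1 h
      calc σ • (a : R) = σ • (σ⁻¹ * τ) • (a : R) := by rw [(hfix a).1 a.2 _ h']
        _ = τ • (a : R) := by rw [← mul_smul, mul_inv_cancel_left]
  have hf : ∀ a (σ : G), f a (σ : G ⧸ q.inertia G) = σ • (a : R) := fun _ _ => rfl
  have hfg : ∀ a (g : G) C, g • f a C = f a (g • C) := fun a g C => by
    induction C using QuotientGroup.induction_on with
    | H σ => rw [MulAction.Quotient.smul_coe, hf, hf, smul_eq_mul, mul_smul]
  let Tr : FixedPoints.subalgebra B R (q.inertia G) →ₗ[B] R :=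
    { toFun := fun a => ∑ C, f a C
      map_add' := fun a b => by
        rw [← Finset.sum_add_distrib]
        refine Finset.sum_congr rfl fun C _ => ?_
        induction C using QuotientGroup.induction_on with
        | H σ => simp [hf]
      map_smul' := fun r a => by
        rw [RingHom.id_apply, Finset.smul_sum]
        refine Finset.sum_congr rfl fun C _ => ?_
        induction C using QuotientGroup.induction_on with
        | H σ => simp [hf, smul_comm σ r] }
  have hTr : ∀ a, Tr a ∈ Set.range (algebraMap B R) := fun a =>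
    Algebra.IsInvariant.isInvariant (G := G) _ fun g => by
      show g • (∑ C, f a C) = ∑ C, f a C
      rw [Finset.smul_sum]
      exact Fintype.sum_equiv (MulAction.toPerm g) _ _ fun C => hfg a g C
  -- pass to an injective `algebraMap`
  have hinj : Function.Injective (algebraMap B R) := FaithfulSMul.algebraMap_injective B R
  · choose tr htr using hTr
    let φ : FixedPoints.subalgebra B R (q.inertia G) →ₗ[B] B :=
      { toFun := tr
        map_add' := fun a b => hinj (by rw [map_add, htr, htr, htr, map_add])
        map_smul' := fun r a => hinj (by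
          rw [RingHom.id_apply, smul_eq_mul, map_mul, htr, htr, map_smul, Algebra.smul_def]) }
    have hφ : ∀ a, algebraMap B R (φ a) = ∑ C, f a C := htr
    refine etale_away_of_dual (φ := φ) (x := fun i : T => i.1.1) (y := fun i : T => i.1.2)
      (fun a => Subtype.ext ?_) (by simp only [c]; exact Finset.sum_coe_sort T fun i => i.1 * i.2)
    rw [AddSubmonoidClass.coe_finsetSum, Finset.sum_coe_sort T
      fun i => ((φ (i.2 * a) • i.1 : FixedPoints.subalgebra B R (q.inertia G)) : R)]
    simp only [SetLike.val_smul]
    simp only [Algebra.smul_def, hφ, Finset.sum_mul]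
    rw [Finset.sum_comm, Finset.sum_eq_single ((1 : G) : G ⧸ q.inertia G)]
    · simp only [hf, one_smul, Subalgebra.coe_mul, hcR, Finset.sum_mul]
      exact Finset.sum_congr rfl fun i _ => by ring
    · intro C _ hC
      induction C using QuotientGroup.induction_on with
      | H σ =>
        have hσ : σ ∉ q.inertia G := fun h => hC (QuotientGroup.eq.2 (by simpa using h))
        calc ∑ i ∈ T, f (i.2 * a) σ * (i.1 : R)
            = σ • (a : R) * ∑ i ∈ T, (i.1 : R) * σ • (i.2 : R) := by
              rw [Finset.mul_sum]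
              refine Finset.sum_congr rfl fun i _ => ?_
              rw [hf, Subalgebra.coe_mul, smul_mul']; ring
          _ = 0 := by rw [hPσ σ hσ, mul_zero]
    · exact fun h => absurd (Finset.mem_univ _) h

end Inertia

end GaloisTraceLib
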